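import Groth.Agent.Lib.GITQuot.Orbit
import Groth.Prelude.Def_AlgGrp
import Mathlib.AlgebraicGeometry.AlgClosed.Basic
import Mathlib.AlgebraicGeometry.Morphisms.UnderlyingMap

/-!
# Orbits of a quotient group on a quotient
-/

universe u

open CategoryTheory MonoidalCategory CartesianMonoidalCategory MonObj AlgebraicGeometry TopologicalSpace

namespace GrothLib.GITQuot27

variable {S : Scheme.{u}}

/-- Acting by a product of two points. -/
theorem lift_mul_act {G X : Over S} [GrpObj G] (a : AlgGrp.Action G X) {T : Over S} (g h : T ⟶ G) (x : T ⟶ X) :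
    lift (g * h) x ≫ a.act = lift g (lift h x ≫ a.act) ≫ a.act := by
  rw [Hom.mul_def, ← lift_whiskerRight_assoc, a.mul_act, lift_lift_associator_hom_assoc, lift_whiskerLeft_assoc]

/-- A surjective morphism of finite type lifts geometric points. -/
theorem exists_point_lift {X Y : Over S} (π : X ⟶ Y) [LocallyOfFiniteType π.left]
    (hs : Function.Surjective π.left.base) {Ω : Type u} [Field Ω] [IsAlgClosed Ω] {T : Over S}
    (e : T.left ≅ Spec (CommRingCat.of Ω)) (y : T ⟶ Y) : ∃ x : T ⟶ X, x ≫ π = y := by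
  let f : Limits.pullback π.left y.left ⟶ Spec (CommRingCat.of Ω) := Limits.pullback.snd π.left y.left ≫ e.hom
  haveI : JacobsonSpace ↥(Limits.pullback π.left y.left) := LocallyOfFiniteType.jacobsonSpace f
  haveI : Nonempty T.left := ⟨e.inv.base (IsLocalRing.closedPoint Ω)⟩
  obtain ⟨t⟩ := ‹Nonempty T.left›
  obtain ⟨x₀, hx₀⟩ := hs (y.left.base t)
  obtain ⟨p₀, -⟩ := Scheme.Pullback.exists_preimage_pullback (f := π.left) (g := y.left) x₀ t hx₀
  obtain ⟨p, -, hp⟩ := nonempty_inter_closedPoints (Z := (Set.univ : Set ↥(Limits.pullback π.left y.left)))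
    ⟨p₀, trivial⟩ isOpen_univ.isLocallyClosed
  let s : T.left ⟶ Limits.pullback π.left y.left := e.hom ≫ pointOfClosedPoint f p hp
  have hs' : s ≫ Limits.pullback.snd π.left y.left = 𝟙 _ := by
    rw [← cancel_mono e.hom, Category.assoc, Category.id_comp]
    simp only [s, Category.assoc]
    rw [pointOfClosedPoint_comp, Category.comp_id]
  refine ⟨Over.homMk (s ≫ Limits.pullback.fst π.left y.left) ?_, Over.OverMorphism.ext ?_⟩
  · rw [Category.assoc, ← Over.w π, Limits.pullback.condition_assoc, reassoc_of% hs', Over.w y]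
  · show (s ≫ Limits.pullback.fst π.left y.left) ≫ π.left = y.left
    rw [Category.assoc, Limits.pullback.condition, reassoc_of% hs']

variable {H N Q X Y : Over S} [GrpObj H] [GrpObj N] [GrpObj Q]
  {i : N ⟶ H} {q : H ⟶ Q} {a : AlgGrp.Action H X} {aN : AlgGrp.Action N X} {π : X ⟶ Y} {aQ : AlgGrp.Action Q Y}

theorem psi_comp_whisker (hequiv : (q ⊗ₘ π) ≫ aQ.act = a.act ≫ π) {T : Over S} (x : T ⟶ X) :
    GIT.psi a x ≫ (π ▷ T) = (q ▷ T) ≫ GIT.psi aQ (x ≫ π) := by
  apply CartesianMonoidalCategory.hom_ext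
  · rw [Category.assoc, Category.assoc, whiskerRight_fst, GIT.psi, GIT.psi, lift_fst_assoc, lift_fst,
      Category.assoc, ← hequiv, tensorHom_def, Category.assoc, whisker_exchange_assoc, whiskerLeft_comp,
      Category.assoc]
  · rw [Category.assoc, Category.assoc, whiskerRight_snd, GIT.psi, GIT.psi, lift_snd, lift_snd, whiskerRight_snd]

/-- The preimage of an orbit of the quotient group is an orbit. -/
theorem preimage_range_psi (haN : aN.act = (i ▷ X) ≫ a.act) (hπ : GIT.IsGeomQuot aN π)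
    (hq : Surjective q.left) (hequiv : (q ⊗ₘ π) ≫ aQ.act = a.act ≫ π) {T : Over S} (x : T ⟶ X) :
    (π ▷ T).left.base ⁻¹' Set.range (GIT.psi aQ (x ≫ π)).left.base = Set.range (GIT.psi a x).left.base := by
  refine Set.Subset.antisymm ?_ ?_
  swap
  · rintro _ ⟨w, rfl⟩
    exact ⟨(q ▷ T).left w, (congrArg (fun g : H ⊗ T ⟶ Y ⊗ T => g.left.base w) (psi_comp_whisker hequiv x)).symm⟩
  rintro z ⟨w, hw⟩
  haveI : Surjective (q ▷ T).left :=
    MorphismProperty.of_isPullback (P := @Surjective) (GrothLib.GITQuot.isPullback_whiskerRight q T) hq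
  obtain ⟨w', rfl⟩ := (q ▷ T).left.surjective w
  let f : H ⊗ T ⟶ X := (H ◁ x) ≫ a.act
  -- the point of `Y × (H × T)` under `w'`
  have hsq : IsPullback (X ◁ snd H T).left (π ▷ (H ⊗ T)).left (π ▷ T).left (Y ◁ snd H T).left := by
    refine IsPullback.of_right ?_ ?_ (GrothLib.GITQuot.isPullback_whiskerRight π T)
    · rw [← Over.comp_left, ← Over.comp_left, whiskerLeft_fst, whiskerLeft_fst]
      exact GrothLib.GITQuot.isPullback_whiskerRight π (H ⊗ T)
    · rw [← Over.comp_left, ← Over.comp_left]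
      exact congrArg CommaMorphism.left (whisker_exchange π (snd H T))
  have hagree : (π ▷ T).left z = (Y ◁ snd H T).left ((lift (f ≫ π) (𝟙 (H ⊗ T))).left w') := by
    have e : lift (f ≫ π) (𝟙 (H ⊗ T)) ≫ (Y ◁ snd H T) = (q ▷ T) ≫ GIT.psi aQ (x ≫ π) := by
      rw [← psi_comp_whisker hequiv x]
      apply CartesianMonoidalCategory.hom_ext <;>
        simp [GIT.psi, f]
    refine hw.symm.trans ?_
    exact (congrArg (fun g : H ⊗ T ⟶ Y ⊗ T => g.left.base w') e).symm
  obtain ⟨z', hz'1, hz'2⟩ := GrothLib.GITQuot.exists_preimage_isPullback hsq z _ hagree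
  have hmem : z' ∈ Set.range (GIT.psi aN f).left.base := by
    rw [GrothLib.GITQuot.range_psi hπ f]
    exact ⟨w', hz'2.symm⟩
  obtain ⟨v, rfl⟩ := hmem
  let m : N ⊗ (H ⊗ T) ⟶ H ⊗ T :=
    lift ((fst N (H ⊗ T) ≫ i) * (snd N (H ⊗ T) ≫ fst H T)) (snd N (H ⊗ T) ≫ snd H T)
  refine ⟨m.left v, ?_⟩
  rw [← hz'1]
  have e : GIT.psi aN f ≫ (X ◁ snd H T) = m ≫ GIT.psi a x := by
    apply CartesianMonoidalCategory.hom_ext
    · have h1 : (N ◁ f) ≫ (i ▷ X) =
          lift (fst N (H ⊗ T) ≫ i) (snd N (H ⊗ T) ≫ f) := by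
        apply CartesianMonoidalCategory.hom_ext <;> simp
      have h2 : f = lift (fst H T) (snd H T ≫ x) ≫ a.act := by
        have : H ◁ x = lift (fst H T) (snd H T ≫ x) := by
          apply CartesianMonoidalCategory.hom_ext <;> simp
        simp [f, this]
      simp only [GIT.psi, Category.assoc, whiskerLeft_fst, lift_fst, haN, m]
      rw [lift_whiskerLeft_assoc, Category.assoc, lift_mul_act, reassoc_of% h1]
      congr 2
      conv_lhs => rw [h2]
      rw [← Category.assoc, comp_lift]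
    · simp [GIT.psi, m]
  exact (congrArg (fun g : N ⊗ (H ⊗ T) ⟶ X ⊗ T => g.left.base v) e).symm

/-- Closedness of the orbits upstairs and downstairs. -/
theorem isClosedAction_quotient_iff (haN : aN.act = (i ▷ X) ≫ a.act) (hπ : GIT.IsGeomQuot aN π)
    (hq : Surjective q.left) (hequiv : (q ⊗ₘ π) ≫ aQ.act = a.act ≫ π) [LocallyOfFiniteType π.left] :
    GIT.IsClosedAction aQ ↔ GIT.IsClosedAction a := by
  constructor
  · intro h Ω _ _ T e x
    rw [← preimage_range_psi haN hπ hq hequiv x]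
    exact (h Ω T e (x ≫ π)).preimage (π ▷ T).left.continuous
  · intro h Ω _ _ T e y
    obtain ⟨x, rfl⟩ := exists_point_lift π hπ.surj e y
    have hqm : Topology.IsQuotientMap (π ▷ T).left.base :=
      hπ.subm _ _ _ (GrothLib.GITQuot.isPullback_whiskerRight π T).flip
    rw [← hqm.isClosed_preimage, preimage_range_psi haN hπ hq hequiv x]
    exact h Ω T e x

end GrothLib.GITQuot27
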