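import Groth.Agent.Lib.GITQuot27.Normal
import Groth.Prelude.Def_GLinSh
import Mathlib.AlgebraicGeometry.Morphisms.QuasiFinite

/-!
# Stabilisers of a quotient group on a quotient
-/

universe u

open CategoryTheory MonoidalCategory CartesianMonoidalCategory MonObj AlgebraicGeometry TopologicalSpace

namespace GrothLib.GITQuot27

theorem finite_iff_finite_sections {P T : Scheme.{u}} {Ω : Type u} [Field Ω] [IsAlgClosed Ω]
    (e : T ≅ Spec (CommRingCat.of Ω)) (f : P ⟶ T) [LocallyOfFiniteType f] [QuasiCompact f] :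
    IsFinite f ↔ Finite {s : T ⟶ P // s ≫ f = 𝟙 T} := by
  let g := f ≫ e.hom
  have e1 : IsFinite f ↔ IsFinite g := (MorphismProperty.cancel_right_of_respectsIso @IsFinite f e.hom).symm
  let E : {s : T ⟶ P // s ≫ f = 𝟙 T} ≃ {p : Spec (CommRingCat.of Ω) ⟶ P // p ≫ g = 𝟙 _} :=
    { toFun := fun s => ⟨e.inv ≫ s.1, by simp [g, reassoc_of% s.2]⟩
      invFun := fun p => ⟨e.hom ≫ p.1, by
        rw [← cancel_mono e.hom, Category.assoc, Category.assoc, p.2, Category.comp_id, Category.id_comp]⟩
      left_inv := fun s => by simp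
      right_inv := fun p => by simp }
  rw [e1, (E.trans (pointEquivClosedPoint g)).finite_iff]
  haveI : JacobsonSpace P := LocallyOfFiniteType.jacobsonSpace g
  constructor
  · intro _
    haveI : Finite P := by
      rw [← Set.finite_univ_iff]
      convert g.finite_preimage_singleton (IsLocalRing.closedPoint Ω)
      ext x
      simp only [Set.mem_univ, Set.mem_preimage, Set.mem_singleton_iff, true_iff]
      exact Subsingleton.elim _ _
    infer_instance
  · intro hfin
    have hfin' : (closedPoints P).Finite := Set.finite_coe_iff.1 hfin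
    have huniv : closedPoints P = Set.univ := by
      have hc : IsClosed (closedPoints P) := by
        rw [← Set.biUnion_of_singleton (closedPoints P)]
        exact hfin'.isClosed_biUnion fun x hx => hx
      rw [← hc.closure_eq, ← Set.univ_inter (closedPoints P),
        JacobsonSpace.closure_inter_closedPoints_eq_closure isOpen_univ.isLocallyClosed, closure_univ]
    haveI : LocallyQuasiFinite g :=
      .of_finite_preimage_singleton g fun _ => (huniv ▸ hfin').subset (Set.subset_univ _)
    exact IsFinite.of_locallyQuasiFinite g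

variable {S : Scheme.{u}}

theorem one_act {G X : Over S} [GrpObj G] (a : AlgGrp.Action G X) {T : Over S} (x : T ⟶ X) :
    lift (1 : T ⟶ G) x ≫ a.act = x := by
  have h : lift (1 : T ⟶ G) x = lift (toUnit T) x ≫ (η[G] ▷ X) := by
    rw [lift_whiskerRight]; rfl
  rw [h, Category.assoc, a.one_act, lift_leftUnitor_hom]

theorem inv_act {G X : Over S} [GrpObj G] (a : AlgGrp.Action G X) {T : Over S} (g : T ⟶ G) (x : T ⟶ X)
    (h : lift g x ≫ a.act = x) : lift g⁻¹ x ≫ a.act = x := by
  conv_lhs => rw [← h]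
  rw [← lift_mul_act, inv_mul_cancel, one_act]

theorem psi_stab_iff {G X : Over S} [GrpObj G] (a : AlgGrp.Action G X) {T : Over S} (x : T ⟶ X) (h : T ⟶ G) :
    lift h (𝟙 T) ≫ GIT.psi a x = lift x (𝟙 T) ↔ lift h x ≫ a.act = x := by
  constructor
  · intro e
    have := congrArg (fun v => v ≫ fst X T) e
    simpa [GIT.psi] using this
  · intro e
    apply CartesianMonoidalCategory.hom_ext <;> simp [GIT.psi, e]

/-- Rational points of a stabiliser. -/
theorem stab_finite_iff {G X : Over S} [GrpObj G] [LocallyOfFiniteType G.hom] [QuasiCompact G.hom]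
    [IsSeparated X.hom] (a : AlgGrp.Action G X) {Ω : Type u} [Field Ω] [IsAlgClosed Ω] {T : Over S}
    (e : T.left ≅ Spec (CommRingCat.of Ω)) (x : T ⟶ X) :
    IsFinite (GLinSh.stabTo a x) ↔ Finite {h : T ⟶ G // lift h x ≫ a.act = x} := by
  have hp : (GIT.psi a x).left ≫ (snd X T).left = (snd G T).left := by
    rw [← Over.comp_left, GIT.psi, lift_snd]
  haveI : IsSeparated (snd X T).left :=
    MorphismProperty.pullback_snd (P := @IsSeparated) X.hom T.hom inferInstance
  haveI h1 : LocallyOfFiniteType ((GIT.psi a x).left ≫ (snd X T).left) := by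
    rw [hp]; exact MorphismProperty.pullback_snd (P := @LocallyOfFiniteType) G.hom T.hom inferInstance
  haveI h2 : QuasiCompact ((GIT.psi a x).left ≫ (snd X T).left) := by
    rw [hp]; exact MorphismProperty.pullback_snd (P := @QuasiCompact) G.hom T.hom inferInstance
  haveI : LocallyOfFiniteType (GIT.psi a x).left := locallyOfFiniteType_of_comp _ (snd X T).left
  haveI : QuasiCompact (GIT.psi a x).left := QuasiCompact.of_comp _ (snd X T).left
  haveI : LocallyOfFiniteType (GLinSh.stabTo a x) :=
    MorphismProperty.pullback_snd (P := @LocallyOfFiniteType) _ _ inferInstance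
  haveI : QuasiCompact (GLinSh.stabTo a x) :=
    MorphismProperty.pullback_snd (P := @QuasiCompact) _ _ inferInstance
  haveI : LocallyOfFiniteType (Limits.pullback.snd (GIT.psi a x).left (lift x (𝟙 T)).left) :=
    ‹LocallyOfFiniteType (GLinSh.stabTo a x)›
  haveI : QuasiCompact (Limits.pullback.snd (GIT.psi a x).left (lift x (𝟙 T)).left) :=
    ‹QuasiCompact (GLinSh.stabTo a x)›
  show IsFinite (Limits.pullback.snd (GIT.psi a x).left (lift x (𝟙 T)).left) ↔ _
  rw [finite_iff_finite_sections e (Limits.pullback.snd (GIT.psi a x).left (lift x (𝟙 T)).left)]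
  refine Equiv.finite_iff
    { toFun := fun s => ⟨Over.homMk (s.1 ≫ Limits.pullback.fst (GIT.psi a x).left (lift x (𝟙 T)).left) ?_ ≫ fst G T, ?_⟩
      invFun := fun h => ⟨Limits.pullback.lift (lift h.1 (𝟙 T)).left (𝟙 _) ?_, Limits.pullback.lift_snd _ _ _⟩
      left_inv := ?_
      right_inv := ?_ }
  · have hs : s.1 ≫ Limits.pullback.snd (GIT.psi a x).left (lift x (𝟙 T)).left = 𝟙 _ := s.2
    rw [← Over.w (GIT.psi a x), Category.assoc, Limits.pullback.condition_assoc, reassoc_of% hs, Over.w]
  · set u : T ⟶ G ⊗ T := Over.homMk (s.1 ≫ Limits.pullback.fst (GIT.psi a x).left (lift x (𝟙 T)).left) _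
    have hs : s.1 ≫ Limits.pullback.snd (GIT.psi a x).left (lift x (𝟙 T)).left = 𝟙 _ := s.2
    have hu : u ≫ GIT.psi a x = lift x (𝟙 T) := Over.OverMorphism.ext (by
      simp only [u, Over.comp_left, Over.homMk_left, Category.assoc, Limits.pullback.condition]
      rw [reassoc_of% hs])
    rw [← psi_stab_iff]
    have husnd : u ≫ snd G T = 𝟙 T := by
      have := congrArg (fun v => v ≫ snd X T) hu
      simpa [GIT.psi] using this
    have : lift (u ≫ fst G T) (𝟙 T) = u := by
      apply CartesianMonoidalCategory.hom_ext <;> simp [husnd]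
    rw [this, hu]
  · rw [Category.id_comp, ← Over.comp_left, (psi_stab_iff a x h.1).2 h.2]
  · intro s
    refine Subtype.ext (Limits.pullback.hom_ext ?_ ?_)
    · simp only [Limits.pullback.lift_fst]
      refine Over.tensorObj_ext _ _ ?_ ?_
      · show (lift _ (𝟙 T)).left ≫ (fst G T).left = _
        rw [← Over.comp_left, lift_fst]
        rfl
      · have hs : s.1 ≫ Limits.pullback.snd (GIT.psi a x).left (lift x (𝟙 T)).left = 𝟙 _ := s.2
        have hp' : (GIT.psi a x).left ≫ (snd X T).left = (snd G T).left := hp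
        have : (s.1 ≫ Limits.pullback.fst (GIT.psi a x).left (lift x (𝟙 T)).left) ≫ (snd G T).left = 𝟙 _ := by
          rw [← hp', Category.assoc, Limits.pullback.condition_assoc, reassoc_of% hs, ← Over.comp_left, lift_snd]
          rfl
        show (lift _ (𝟙 T)).left ≫ (snd G T).left = _
        rw [← Over.comp_left, lift_snd]
        exact this.symm
    · simp only [Limits.pullback.lift_snd]
      exact s.2.symm
  · intro h
    refine Subtype.ext ?_
    refine Over.OverMorphism.ext ?_
    simp only [Over.comp_left, Over.homMk_left, Limits.pullback.lift_fst]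
    rw [← Over.comp_left, lift_fst]

variable {H N Q X Y : Over S} [GrpObj H] [GrpObj N] [GrpObj Q]
  {i : N ⟶ H} {q : H ⟶ Q} [IsMonHom q] {a : AlgGrp.Action H X} {aN : AlgGrp.Action N X} {π : X ⟶ Y}
  {aQ : AlgGrp.Action Q Y}

theorem act_comp (hequiv : (q ⊗ₘ π) ≫ aQ.act = a.act ≫ π) {T : Over S} (h : T ⟶ H) (x : T ⟶ X) :
    lift (h ≫ q) (x ≫ π) ≫ aQ.act = (lift h x ≫ a.act) ≫ π := by
  rw [← lift_map_assoc, hequiv, Category.assoc]

theorem finite_stab_points_iff (hker : AlgGrp.IsKernel i q) (haN : aN.act = (i ▷ X) ≫ a.act)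
    (hπ : GIT.IsGeomQuot aN π) (hequiv : (q ⊗ₘ π) ≫ aQ.act = a.act ≫ π)
    [LocallyOfFiniteType N.hom] [LocallyOfFiniteType q.left] (hq : Function.Surjective q.left.base)
    {Ω : Type u} [Field Ω] [IsAlgClosed Ω] {T : Over S} (e : T.left ≅ Spec (CommRingCat.of Ω)) (x : T ⟶ X)
    [Finite {n : T ⟶ N // lift n x ≫ aN.act = x}] :
    Finite {p : T ⟶ Q // lift p (x ≫ π) ≫ aQ.act = x ≫ π} ↔ Finite {h : T ⟶ H // lift h x ≫ a.act = x} := by
  have hN : ∀ (n : T ⟶ N) (z : T ⟶ X), lift n z ≫ aN.act = lift (n ≫ i) z ≫ a.act := fun n z => by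
    rw [haN, lift_whiskerRight_assoc]
  have hiq : ∀ n : T ⟶ N, (n ≫ i) ≫ q = 1 := fun n => by
    rw [Category.assoc, hker.w, ← Category.assoc, comp_toUnit]
    rfl
  let φ : {h : T ⟶ H // lift h x ≫ a.act = x} → {p : T ⟶ Q // lift p (x ≫ π) ≫ aQ.act = x ≫ π} := fun h =>
    ⟨h.1 ≫ q, by rw [act_comp hequiv, h.2]⟩
  have hsurj : Function.Surjective φ := by
    rintro ⟨p, hp⟩
    obtain ⟨h, rfl⟩ := exists_point_lift q hq e p
    rw [act_comp hequiv] at hp
    let P : Over S := Over.mk (Limits.pullback.fst π.left π.left ≫ X.hom)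
    let Ψ : N ⊗ X ⟶ P := Over.homMk (GIT.PsiY aN π hπ.inv) (by
      show GIT.PsiY aN π hπ.inv ≫ Limits.pullback.fst π.left π.left ≫ X.hom = _
      rw [GIT.PsiY, Limits.pullback.lift_fst_assoc, Over.w aN.act])
    haveI : LocallyOfFiniteType (Ψ.left ≫ Limits.pullback.snd π.left π.left) := by
      show LocallyOfFiniteType (GIT.PsiY aN π hπ.inv ≫ _)
      rw [GIT.PsiY, Limits.pullback.lift_snd]
      exact MorphismProperty.pullback_snd (P := @LocallyOfFiniteType) N.hom X.hom inferInstance
    haveI : LocallyOfFiniteType Ψ.left := locallyOfFiniteType_of_comp _ (Limits.pullback.snd π.left π.left)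
    let y : T ⟶ P := Over.homMk (Limits.pullback.lift x.left (lift h x ≫ a.act).left (by
      rw [← Over.comp_left, ← Over.comp_left, hp])) (by
      show Limits.pullback.lift x.left _ _ ≫ Limits.pullback.fst π.left π.left ≫ X.hom = T.hom
      rw [Limits.pullback.lift_fst_assoc, Over.w x])
    obtain ⟨v, hv⟩ := exists_point_lift Ψ hπ.orbit e y
    have hvl : v.left ≫ GIT.PsiY aN π hπ.inv = y.left := congrArg CommaMorphism.left hv
    have h1 : v ≫ aN.act = x := Over.OverMorphism.ext (by
      have := congrArg (fun w => w ≫ Limits.pullback.fst π.left π.left) hvl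
      rw [Over.comp_left]
      simpa only [GIT.PsiY, y, Category.assoc, Limits.pullback.lift_fst, Over.homMk_left] using this)
    have h2 : v ≫ snd N X = lift h x ≫ a.act := Over.OverMorphism.ext (by
      have := congrArg (fun w => w ≫ Limits.pullback.snd π.left π.left) hvl
      rw [Over.comp_left]
      simpa only [GIT.PsiY, y, Category.assoc, Limits.pullback.lift_snd, Over.homMk_left] using this)
    have hv' : lift (v ≫ fst N X) (lift h x ≫ a.act) = v := by
      apply CartesianMonoidalCategory.hom_ext <;> simp [h2]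
    refine ⟨⟨(v ≫ fst N X) ≫ i * h, ?_⟩, Subtype.ext ?_⟩
    · rw [lift_mul_act, ← hN, hv', h1]
    · show ((v ≫ fst N X) ≫ i * h) ≫ q = h ≫ q
      rw [MonObj.mul_comp, hiq, _root_.one_mul]
  constructor
  · intro _
    suffices hfib : ∀ p, Finite {h // φ h = p} from
      Finite.of_equiv (Σ p, {h // φ h = p}) (Equiv.sigmaFiberEquiv φ)
    intro p
    rcases isEmpty_or_nonempty {h // φ h = p} with hempty | ⟨⟨h₀, hh₀⟩⟩
    · infer_instance
    have key : ∀ h : {h // φ h = p}, ∃ n : {n : T ⟶ N // lift n x ≫ aN.act = x}, n.1 ≫ i = h.1.1 * h₀.1⁻¹ := by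
      rintro ⟨h, hh⟩
      have e1 : h.1 ≫ q = h₀.1 ≫ q := congrArg Subtype.val (hh.trans hh₀.symm)
      have e2 : (h.1 * h₀.1⁻¹) ≫ q = toUnit T ≫ η[Q] := by
        rw [MonObj.mul_comp, GrpObj.inv_comp, e1, mul_inv_cancel]; rfl
      refine ⟨⟨hker.lift _ _ e2, ?_⟩, hker.lift_fst _ _ _⟩
      rw [hN, hker.lift_fst, lift_mul_act, inv_act a h₀.1 x h₀.2, h.2]
    choose n hn using key
    refine Finite.of_injective n fun h h' ee => Subtype.ext (Subtype.ext ?_)
    have := (hn h).symm.trans ((congrArg (fun z => z.1 ≫ i) ee).trans (hn h'))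
    exact mul_right_cancel this
  · intro _
    exact Finite.of_surjective φ hsurj

end GrothLib.GITQuot27
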