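import Groth.Prelude.Def_W4bk4git07Quot
import Groth.Agent.Lib.GITQuot.Orbit
import Mathlib.AlgebraicGeometry.AffineSpace
import Mathlib.CategoryTheory.Monoidal.Cartesian.Over
import Mathlib.AlgebraicGeometry.ResidueField

/-!
# Universal categorical quotients
-/

universe u

open CategoryTheory MonoidalCategory CartesianMonoidalCategory MonObj AlgebraicGeometry TopologicalSpace

namespace GrothLib.GITQuot27

variable {S : Scheme.{u}} {G : Over S} [GrpObj G] {X Y : Over S} {a : AlgGrp.Action G X} {φ : X ⟶ Y}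

/-- A cartesian square in the slice from one of schemes. -/
theorem isPullback_over {X' Y' : Over S} {pr : X' ⟶ X} {φ' : X' ⟶ Y'} {g : Y' ⟶ Y}
    (h : IsPullback pr.left φ'.left φ.left g.left) : IsPullback pr φ' φ g :=
  IsPullback.of_map (Over.forget S) (Over.OverMorphism.ext h.w) h

/-- The action on a base change of the target of an invariant morphism. -/
theorem exists_action (hi : GIT.IsInvariant a φ) {X' Y' : Over S} {pr : X' ⟶ X} {φ' : X' ⟶ Y'} {g : Y' ⟶ Y}
    (h : IsPullback pr φ' φ g) :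
    ∃ a' : AlgGrp.Action G X', a'.act ≫ pr = (G ◁ pr) ≫ a.act ∧ GIT.IsInvariant a' φ' := by
  have hw : ((G ◁ pr) ≫ a.act) ≫ φ = (snd G X' ≫ φ') ≫ g := by
    rw [Category.assoc, hi, whiskerLeft_snd_assoc, h.w, Category.assoc]
  refine ⟨⟨h.lift ((G ◁ pr) ≫ a.act) (snd G X' ≫ φ') hw, ?_, ?_⟩, h.lift_fst _ _ _, h.lift_snd _ _ _⟩
  · apply h.hom_ext
    · rw [Category.assoc, h.lift_fst, ← Category.assoc, ← whisker_exchange, Category.assoc, a.one_act,
        leftUnitor_hom, leftUnitor_hom, whiskerLeft_snd]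
    · rw [Category.assoc, h.lift_snd, whiskerRight_snd_assoc, leftUnitor_hom]
  · apply h.hom_ext
    · rw [Category.assoc, h.lift_fst, ← Category.assoc, ← whisker_exchange, Category.assoc, a.mul_act,
        Category.assoc, Category.assoc, h.lift_fst, ← Category.assoc (G ◁ _) (G ◁ pr), ← whiskerLeft_comp,
        h.lift_fst, whiskerLeft_comp, Category.assoc, associator_naturality_right_assoc]
    · rw [Category.assoc, h.lift_snd, Category.assoc, Category.assoc, h.lift_snd, whiskerLeft_snd_assoc,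
        h.lift_snd, whiskerRight_snd_assoc, associator_hom_snd_snd_assoc]

theorem exists_isPullback (U : Y.left.Opens) :
    IsPullback (Over.homMk (φ.left ⁻¹ᵁ U).ι rfl : Over.mk ((φ.left ⁻¹ᵁ U).ι ≫ X.hom) ⟶ X)
      (Over.homMk (φ.left ∣_ U) (by simp [Over.w φ]) :
        Over.mk ((φ.left ⁻¹ᵁ U).ι ≫ X.hom) ⟶ Over.mk (U.ι ≫ Y.hom))
      φ (Over.homMk U.ι rfl : Over.mk (U.ι ≫ Y.hom) ⟶ Y) :=
  isPullback_over (isPullback_morphismRestrict φ.left U).flip

/-- Restriction of a morphism, on functions. -/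
theorem topIso_inv_morphismRestrict_appTop {A B : Scheme.{u}} (f : A ⟶ B) (U : B.Opens) :
    U.topIso.inv ≫ (f ∣_ U).appTop = f.app U ≫ (f ⁻¹ᵁ U).topIso.inv := by
  simp [morphismRestrict_appTop, Scheme.Opens.topIso, Scheme.Hom.app_eq_appLE,
    Scheme.Hom.appLE_map, Scheme.Hom.map_appLE]
  exact (Scheme.Hom.map_appLE f _ _).trans (Scheme.Hom.appLE_map f _ _).symm

/-- Functions pulled back along a morphism into an open subscheme. -/
theorem topIso_inv_appTop {T A : Scheme.{u}} (V : A.Opens) (v : T ⟶ V.toScheme) (e : ⊤ ≤ (v ≫ V.ι) ⁻¹ᵁ V) :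
    V.topIso.inv ≫ v.appTop = (v ≫ V.ι).appLE V ⊤ e := by
  rw [← Scheme.Hom.appLE_comp_appLE v V.ι V ⊤ ⊤ (by simp) (by simp)]
  simp [Scheme.Opens.topIso, Scheme.Hom.appTop, Scheme.Hom.app_eq_appLE, Scheme.Opens.ι_appLE]
  congr 1

variable (S) in
/-- The affine line over the base. -/
noncomputable def line : Over S := Over.mk (AffineSpace PUnit.{u + 1} S ↘ S)

/-- A function as a morphism to the affine line. -/
noncomputable def toLine {T : Over S} (s : Γ(T.left, ⊤)) : T ⟶ line S :=
  Over.homMk (AffineSpace.homOfVector T.hom fun _ => s) (AffineSpace.homOfVector_over _ _)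

theorem comp_toLine {T T' : Over S} (f : T' ⟶ T) (s : Γ(T.left, ⊤)) :
    f ≫ toLine s = toLine (f.left.appTop s) := by
  refine Over.OverMorphism.ext ?_
  show f.left ≫ AffineSpace.homOfVector T.hom (fun _ => s) = AffineSpace.homOfVector T'.hom _
  rw [AffineSpace.comp_homOfVector, Over.w f]
  rfl

/-- The function of a morphism to the affine line. -/
noncomputable def fnOfLine {T : Over S} (v : T ⟶ line S) : Γ(T.left, ⊤) :=
  v.left.appTop (AffineSpace.coord S PUnit.unit)

theorem fnOfLine_toLine {T : Over S} (s : Γ(T.left, ⊤)) : fnOfLine (toLine s) = s :=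
  AffineSpace.homOfVector_appTop_coord T.hom (fun _ => s) PUnit.unit

theorem fnOfLine_comp {T T' : Over S} (f : T' ⟶ T) (v : T ⟶ line S) :
    fnOfLine (f ≫ v) = f.left.appTop (fnOfLine v) := rfl

/-- A universal categorical quotient is surjective. -/
theorem surjective (h : GIT.IsUnivCatQuot a φ) : Function.Surjective φ.left.base := by
  intro y
  let g₀ := Y.left.fromSpecResidueField y
  let Y' : Over S := Over.mk (g₀ ≫ Y.hom)
  let g : Y' ⟶ Y := Over.homMk g₀ rfl
  let X' : Over S := Over.mk (Limits.pullback.fst φ.left g₀ ≫ X.hom)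
  let pr : X' ⟶ X := Over.homMk (Limits.pullback.fst φ.left g₀) rfl
  let φ' : X' ⟶ Y' := Over.homMk (Limits.pullback.snd φ.left g₀) (by
    show _ ≫ g₀ ≫ Y.hom = Limits.pullback.fst φ.left g₀ ≫ X.hom
    rw [← Limits.pullback.condition_assoc, Over.w φ])
  have hp : IsPullback pr φ' φ g := isPullback_over (IsPullback.of_hasPullback φ.left g₀)
  by_contra hne
  push Not at hne
  haveI hX' : IsEmpty X'.left := ⟨fun x => by
    have h1 := congrArg (fun f : X'.left ⟶ Y.left => f.base x) (Limits.pullback.condition (f := φ.left) (g := g₀))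
    have h2 : g₀.base ((Limits.pullback.snd φ.left g₀).base x) ∈ Set.range g₀.base := ⟨_, rfl⟩
    rw [Scheme.range_fromSpecResidueField] at h2
    exact hne _ (h1.trans h2)⟩
  obtain ⟨a', ha', hinv⟩ := exists_action h.1.1 hp
  let Z : Over S := Over.mk (Scheme.emptyTo S)
  let ψ : X' ⟶ Z := Over.homMk ((isInitialOfIsEmpty (X := X'.left)).to _)
    ((isInitialOfIsEmpty (X := X'.left)).hom_ext _ _)
  haveI : IsEmpty (G ⊗ X').left := Function.isEmpty (snd G X').left.base
  have hψ : GIT.IsInvariant a' ψ :=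
    Over.OverMorphism.ext ((isInitialOfIsEmpty (X := (G ⊗ X').left)).hom_ext _ _)
  obtain ⟨χ, -, -⟩ := (h.2 pr φ' g trivial hp a' ha' hinv).2 Z ψ hψ
  obtain ⟨y', -⟩ := Scheme.range_fromSpecResidueField y |>.ge (Set.mem_singleton y)
  haveI : IsEmpty Z.left := inferInstanceAs (IsEmpty (∅ : Scheme.{u}))
  exact IsEmpty.false (χ.left.base y' : Z.left)

/-- The functions on a universal categorical quotient are the invariant functions. -/
theorem sections (h : GIT.IsUnivCatQuot a φ) (U : Y.left.Opens) :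
    Function.Injective (φ.left.app U) ∧ Set.range (φ.left.app U) = {f | GIT.IsInvSection a φ U f} := by
  let Y' : Over S := Over.mk (U.ι ≫ Y.hom)
  let X' : Over S := Over.mk ((φ.left ⁻¹ᵁ U).ι ≫ X.hom)
  let pr : X' ⟶ X := Over.homMk (φ.left ⁻¹ᵁ U).ι rfl
  let g : Y' ⟶ Y := Over.homMk U.ι rfl
  let φ' : X' ⟶ Y' := Over.homMk (φ.left ∣_ U) (by simp [X', Y', Over.w φ])
  have hp : IsPullback pr φ' φ g := exists_isPullback U
  obtain ⟨a', ha', hinv⟩ := exists_action h.1.1 hp
  have hq := h.2 pr φ' g trivial hp a' ha' hinv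
  let V := φ.left ⁻¹ᵁ U
  have happ : ∀ s : Γ(Y.left, U), φ'.left.appTop (U.topIso.inv s) = V.topIso.inv (φ.left.app U s) := fun s =>
    ConcreteCategory.congr_hom (topIso_inv_morphismRestrict_appTop φ.left U) s
  refine ⟨fun s₁ s₂ e => ?_, Set.ext fun f => ⟨?_, fun hf => ?_⟩⟩
  · have h1 : φ' ≫ toLine (U.topIso.inv s₁) = φ' ≫ toLine (U.topIso.inv s₂) := by
      rw [comp_toLine, comp_toLine, happ, happ, e]
    have hψ : GIT.IsInvariant a' (φ' ≫ toLine (U.topIso.inv s₁)) := by
      show _ = _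
      rw [reassoc_of% (show a'.act ≫ φ' = snd G X' ≫ φ' from hinv)]
    obtain ⟨χ, -, huniq⟩ := hq.2 _ _ hψ
    have h2 := congrArg fnOfLine ((huniq _ rfl).trans (huniq _ h1.symm).symm)
    rw [fnOfLine_toLine, fnOfLine_toLine] at h2
    exact (ConcreteCategory.bijective_of_isIso U.topIso.inv).1 h2
  · rintro ⟨s, rfl⟩
    show GIT.IsInvSection a φ U _
    rw [GIT.IsInvSection, ← CommRingCat.comp_apply, ← CommRingCat.comp_apply]
    refine ConcreteCategory.congr_hom ?_ s
    simp only [Scheme.Hom.app_eq_appLE, Scheme.Hom.appLE_comp_appLE, h.1.1.left]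
  · replace hf : GIT.IsInvSection a φ U f := hf
    have hrange : ∀ {T : Over S} (v : T ⟶ X'), (⊤ : T.left.Opens) ≤ (v.left ≫ V.ι) ⁻¹ᵁ V := fun v z _ =>
      (v.left.base z).2
    have hψ : GIT.IsInvariant a' (toLine (T := X') (V.topIso.inv f)) := by
      show _ = _
      rw [comp_toLine, comp_toLine]
      congr 1
      have h1 := ConcreteCategory.congr_hom (topIso_inv_appTop V a'.act.left (hrange a'.act)) f
      have h2 := ConcreteCategory.congr_hom (topIso_inv_appTop V (snd G X').left (hrange (snd G X'))) f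
      refine h1.trans (Eq.trans ?_ h2.symm)
      have e1 : a'.act.left ≫ V.ι = (G ◁ pr).left ≫ a.act.left := congrArg CommaMorphism.left ha'
      have e2 : (snd G X').left ≫ V.ι = (G ◁ pr).left ≫ (snd G X).left :=
        congrArg CommaMorphism.left (whiskerLeft_snd G pr).symm
      have hW : (⊤ : (G ⊗ X').left.Opens) ≤ (G ◁ pr).left ⁻¹ᵁ
          (a.act.left ⁻¹ᵁ V ⊓ (snd G X).left ⁻¹ᵁ V) := fun z _ => by
        constructor
        · show ((G ◁ pr).left ≫ a.act.left).base z ∈ V
          rw [← e1]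
          exact (a'.act.left.base z).2
        · show ((G ◁ pr).left ≫ (snd G X).left).base z ∈ V
          rw [← e2]
          exact ((snd G X').left.base z).2
      have key := congrArg ((G ◁ pr).left.appLE _ ⊤ hW) hf
      rw [← CommRingCat.comp_apply, ← CommRingCat.comp_apply, Scheme.Hom.appLE_comp_appLE,
        Scheme.Hom.appLE_comp_appLE] at key
      simp only [e1, e2]
      exact key
    obtain ⟨χ, hχ, -⟩ := hq.2 _ _ hψ
    have e := congrArg fnOfLine hχ
    rw [fnOfLine_comp, fnOfLine_toLine] at e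
    refine ⟨U.topIso.hom (fnOfLine χ), (ConcreteCategory.bijective_of_isIso V.topIso.inv).1 ?_⟩
    refine (happ _).symm.trans (Eq.trans ?_ e)
    rw [← CommRingCat.comp_apply U.topIso.hom, Iso.hom_inv_id]
    rfl

/-- Universality is inherited by base changes. -/
theorem isUnivCatQuot_baseChange (h : GIT.IsUnivCatQuot a φ) {X' Y' : Over S} {pr : X' ⟶ X} {φ' : X' ⟶ Y'}
    {g : Y' ⟶ Y} (hp : IsPullback pr φ' φ g) (a' : AlgGrp.Action G X')
    (ha' : a'.act ≫ pr = (G ◁ pr) ≫ a.act) (hinv : GIT.IsInvariant a' φ') : GIT.IsUnivCatQuot a' φ' :=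
  ⟨h.2 pr φ' g trivial hp a' ha' hinv, fun _ _ pr' φ'' g' _ hp' a'' ha'' hinv' =>
    h.2 (pr' ≫ pr) φ'' (g' ≫ g) trivial (hp'.paste_horiz hp) a''
      (by rw [reassoc_of% ha'', ha', whiskerLeft_comp, Category.assoc]) hinv'⟩

/-- The geometric quotient property descends to base changes. -/
theorem orbit_baseChange (hi : GIT.IsInvariant a φ) (ho : Function.Surjective (GIT.PsiY a φ hi).base)
    {X' Y' : Over S} {pr : X' ⟶ X} {φ' : X' ⟶ Y'}
    {g : Y' ⟶ Y} (hp : IsPullback pr φ' φ g) (a' : AlgGrp.Action G X')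
    (ha' : a'.act ≫ pr = (G ◁ pr) ≫ a.act) (hinv : GIT.IsInvariant a' φ') :
    Function.Surjective (GIT.PsiY a' φ' hinv).base := by
  have hw : pr.left ≫ φ.left = φ'.left ≫ g.left := by rw [← Over.comp_left, hp.w, Over.comp_left]
  have hp' : IsPullback pr.left φ'.left φ.left g.left := hp.map (Over.forget S)
  let m : Limits.pullback φ'.left φ'.left ⟶ Limits.pullback φ.left φ.left :=
    Limits.pullback.lift (Limits.pullback.fst _ _ ≫ pr.left) (Limits.pullback.snd _ _ ≫ pr.left) (by
      rw [Category.assoc, Category.assoc, hw, Limits.pullback.condition_assoc])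
  have hsq : IsPullback (G ◁ pr).left (GIT.PsiY a' φ' hinv) (GIT.PsiY a φ hi) m := by
    refine IsPullback.of_bot (v₂₁ := Limits.pullback.snd _ _) (v₂₂ := Limits.pullback.snd _ _)
      (h₃₁ := pr.left) ?_ ?_ ?_
    · simp only [GIT.PsiY, Limits.pullback.lift_snd]
      exact (GrothLib.GITQuot.isPullback_whiskerLeft G pr).flip
    · apply Limits.pullback.hom_ext
      · simp only [m, GIT.PsiY, Category.assoc, Limits.pullback.lift_fst, Limits.pullback.lift_fst_assoc,
          ← Over.comp_left, ha']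
      · simp only [m, GIT.PsiY, Category.assoc, Limits.pullback.lift_snd, Limits.pullback.lift_snd_assoc,
          ← Over.comp_left, whiskerLeft_snd]
    · have hc : IsPullback (Limits.pullback.fst φ'.left φ'.left ≫ pr.left) (Limits.pullback.snd φ'.left φ'.left)
          φ.left (pr.left ≫ φ.left) := by
        rw [hw]
        exact (IsPullback.of_hasPullback φ'.left φ'.left).paste_horiz hp'
      refine IsPullback.of_right ?_ ?_ (IsPullback.of_hasPullback φ.left φ.left)
      · rw [Limits.pullback.lift_fst]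
        exact hc
      · exact Limits.pullback.lift_snd _ _ _
  intro p
  obtain ⟨r, hr⟩ := ho (m p)
  obtain ⟨z, -, hz⟩ := GrothLib.GITQuot.exists_preimage_isPullback hsq r p hr
  exact ⟨z, hz⟩

theorem isUnivGeomQuot_iff (h : GIT.IsUnivCatQuot a φ) :
    GIT.IsUnivGeomQuot a φ ↔
      GIT.IsUnivSubmersive φ.left ∧ Function.Surjective (GIT.PsiY a φ h.1.1).base := by
  refine ⟨fun hu => ⟨hu.1.subm, hu.1.orbit⟩, fun ⟨hs, ho⟩ => ⟨⟨h.1.1, surjective h, ho, hs, sections h⟩, ?_⟩⟩
  intro X' Y' pr φ' g _ hp a' ha' hinv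
  have h' := isUnivCatQuot_baseChange h hp a' ha' hinv
  exact ⟨hinv, surjective h', orbit_baseChange h.1.1 ho hp a' ha' hinv,
    MorphismProperty.of_isPullback (P := MorphismProperty.universally (topologically @Topology.IsQuotientMap))
      (hp.map (Over.forget S)) hs, sections h'⟩

end GrothLib.GITQuot27
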